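import Groth.Agent.H19.UFDUnits

/-!
helper71: algebra for spreading out a trivialisation.  `B` a domain with fraction field `K`, `p` a
prime with `R = B_p` factorial.  `IsAwayUnit g x`: `x ∈ K` is a unit of `B[1/g]`.  Units of
`R[1/g]` are units of `B[1/(s g)]` for some `s ∉ p`, and helper19's normalisation lemma over `R`
gives a normalisation over `B[1/s]` for a finite family.
-/

set_option autoImplicit false

namespace Groth.Agent.H71.PicExt

open Groth.Agent.H19.UFDUnits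

variable {B : Type*} [CommRing B] [IsDomain B] {K : Type*} [Field K] [Algebra B K]
  [IsFractionRing B K]

/-- `x` is a unit of `B[1/g] ⊆ K` -/
def IsAwayUnit (g : B) (x : K) : Prop :=
  ∃ α β : B, (∃ n : ℕ, α ∣ g ^ n) ∧ (∃ n : ℕ, β ∣ g ^ n) ∧
    x * algebraMap B K β = algebraMap B K α

omit [IsDomain B] [IsFractionRing B K] in
theorem IsAwayUnit.of_dvd {g g' : B} (h : g ∣ g') {x : K} (hx : IsAwayUnit g x) :
    IsAwayUnit g' x := by
  obtain ⟨α, β, ⟨n, hn⟩, ⟨m, hm⟩, hx⟩ := hx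
  exact ⟨α, β, ⟨n, hn.trans (pow_dvd_pow_of_dvd h n)⟩, ⟨m, hm.trans (pow_dvd_pow_of_dvd h m)⟩, hx⟩

omit [IsDomain B] [IsFractionRing B K] in
theorem IsAwayUnit.one (g : B) : IsAwayUnit g (1 : K) :=
  ⟨1, 1, ⟨0, one_dvd _⟩, ⟨0, one_dvd _⟩, by simp⟩

omit [IsDomain B] [IsFractionRing B K] in
theorem IsAwayUnit.mul {g : B} {x y : K} (hx : IsAwayUnit g x) (hy : IsAwayUnit g y) :
    IsAwayUnit g (x * y) := by
  obtain ⟨α, β, ⟨n, hn⟩, ⟨m, hm⟩, hx⟩ := hx
  obtain ⟨α', β', ⟨n', hn'⟩, ⟨m', hm'⟩, hy⟩ := hy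
  refine ⟨α * α', β * β', ⟨n + n', ?_⟩, ⟨m + m', ?_⟩, ?_⟩
  · rw [pow_add]; exact mul_dvd_mul hn hn'
  · rw [pow_add]; exact mul_dvd_mul hm hm'
  · rw [map_mul, map_mul, ← hx, ← hy]; ring

theorem IsAwayUnit.ne_zero {g : B} (hg : g ≠ 0) {x : K} (hx : IsAwayUnit g x) : x ≠ 0 := by
  obtain ⟨α, β, ⟨n, hn⟩, -, hx⟩ := hx
  intro h0
  rw [h0, zero_mul] at hx
  have hα : α = 0 := by
    apply IsFractionRing.injective B K
    rw [← hx, map_zero]
  rw [hα, zero_dvd_iff] at hn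
  exact pow_ne_zero n hg hn

theorem IsAwayUnit.inv {g : B} (hg : g ≠ 0) {x : K} (hx : IsAwayUnit g x) :
    IsAwayUnit g x⁻¹ := by
  have hx0 := hx.ne_zero hg
  obtain ⟨α, β, hα, hβ, hx⟩ := hx
  refine ⟨β, α, hβ, hα, ?_⟩
  rw [← hx]
  field_simp

variable (p : Ideal B) [p.IsPrime] {R : Type*} [CommRing R] [IsDomain R] [Algebra B R]
  [IsLocalization.AtPrime R p] (ψ : R →+* K)
  (hψ : ∀ b : B, ψ (algebraMap B R b) = algebraMap B K b)

omit [IsDomain B] [IsFractionRing B K] [p.IsPrime] [IsDomain R] [IsLocalization.AtPrime R p] in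
include hψ in
theorem IsAwayUnit.hUnit' {g : B} {x : K} (hx : IsAwayUnit g x) :
    HUnit' ψ (algebraMap B R g) x := by
  obtain ⟨α, β, ⟨n, hn⟩, ⟨m, hm⟩, hx⟩ := hx
  refine ⟨algebraMap B R α, algebraMap B R β, ⟨n, ?_⟩, ⟨m, ?_⟩, ?_⟩
  · rw [← map_pow]; exact map_dvd _ hn
  · rw [← map_pow]; exact map_dvd _ hm
  · rw [hψ, hψ]; exact hx

omit [IsDomain R] in
/-- clearing denominators in a smooth element -/
theorem exists_smooth_lift {g : B} {a : R} (ha : Smooth (algebraMap B R g) a) :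
    ∃ (α t : B), t ∉ p ∧ a * algebraMap B R t = algebraMap B R α ∧
      ∃ (t' : B) (n : ℕ), t' ∉ p ∧ α ∣ (t * t' * g) ^ n := by
  obtain ⟨n, a', ha'⟩ := ha
  obtain ⟨α, t, hq1⟩ := IsLocalization.exists_mk'_eq p.primeCompl a
  obtain ⟨α', t', hq2⟩ := IsLocalization.exists_mk'_eq p.primeCompl a'
  rw [IsLocalization.mk'_eq_iff_eq_mul] at hq1 hq2
  refine ⟨α, t, t.2, hq1.symm, t', n + 1, t'.2, ?_⟩
  have hinj : Function.Injective (algebraMap B R) :=
    IsLocalization.injective R p.primeCompl_le_nonZeroDivisors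
  have h1 : α * α' = g ^ n * (t * t') := by
    apply hinj
    rw [map_mul, map_mul, hq1, hq2, map_mul, map_pow, ha']
    ring
  refine ⟨α' * ((t * t' : B) ^ n * g), ?_⟩
  rw [← mul_assoc, h1]
  ring

include hψ in
theorem exists_isAwayUnit_of_hUnit' {g : B} {x : K} (hx : HUnit' ψ (algebraMap B R g) x) :
    ∃ s : B, s ∉ p ∧ IsAwayUnit (s * g) x := by
  obtain ⟨a, b, ha, hb, hab⟩ := hx
  obtain ⟨α, t, ht, hq1, t', n, ht', hαd⟩ := exists_smooth_lift p ha
  obtain ⟨β, u, hu, hbu, u', m, hu', hβd⟩ := exists_smooth_lift p hb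
  have hs : t * t' * (u * u') ∉ p := fun h =>
    ((Ideal.IsPrime.mem_or_mem inferInstance h).elim
      (fun h => (Ideal.IsPrime.mem_or_mem inferInstance h).elim ht ht')
      (fun h => (Ideal.IsPrime.mem_or_mem inferInstance h).elim hu hu'))
  refine ⟨t * t' * (u * u'), hs, α * u, β * t, ⟨n + 1, ?_⟩, ⟨m + 1, ?_⟩, ?_⟩
  · rw [pow_succ]
    refine mul_dvd_mul (hαd.trans (pow_dvd_pow_of_dvd ?_ n)) ?_
    · exact ⟨u * u', by ring⟩
    · exact ⟨t * t' * u' * g, by ring⟩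
  · rw [pow_succ]
    refine mul_dvd_mul (hβd.trans (pow_dvd_pow_of_dvd ?_ m)) ?_
    · exact ⟨t * t', by ring⟩
    · exact ⟨t' * (u * u') * g, by ring⟩
  · -- `x * ψ b = ψ a`, `a t = α`, `b u = β`
    have e1 : ψ a * algebraMap B K t = algebraMap B K α := by
      rw [← hψ, ← hψ, ← map_mul, hq1]
    have e2 : ψ b * algebraMap B K u = algebraMap B K β := by
      rw [← hψ, ← hψ, ← map_mul, hbu]
    rw [map_mul, map_mul, ← e1, ← e2, ← hab]
    ring

variable [UniqueFactorizationMonoid R]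

include hψ in
/-- normalisation of a finite family of transition functions, after inverting some `s ∉ p` -/
theorem exists_common_normalisation (hψinj : Function.Injective ψ) {κ : Type*} [Fintype κ]
    (f : κ → B) (hf : ∀ k, f k ≠ 0) (f₀ : B) (hf₀ : f₀ ≠ 0) (γ : κ → K)
    (h1 : ∀ k, IsAwayUnit (f₀ * f k) (γ k))
    (h2 : ∀ k l, IsAwayUnit (f k * f l) (γ k / γ l)) :
    ∃ (s : B) (μ : K), s ∉ p ∧ ∀ k, IsAwayUnit (s * f k) (μ * γ k) := by
  classical
  have hinj : Function.Injective (algebraMap B R) :=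
    IsLocalization.injective R p.primeCompl_le_nonZeroDivisors
  obtain ⟨μ, -, hμ⟩ := exists_normalisation' hψinj (fun k => algebraMap B R (f k))
    (fun k => (map_ne_zero_iff _ hinj).2 (hf k)) (algebraMap B R f₀)
    ((map_ne_zero_iff _ hinj).2 hf₀) γ
    (fun k => by rw [← map_mul]; exact (h1 k).hUnit' ψ hψ)
    (fun k l => by rw [← map_mul]; exact (h2 k l).hUnit' ψ hψ)
  choose s hs hsu using fun k => exists_isAwayUnit_of_hUnit' p ψ hψ (hμ k)
  refine ⟨∏ k, s k, μ, ?_, fun k => ?_⟩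
  · intro h
    obtain ⟨k, -, hk⟩ := Ideal.IsPrime.prod_mem_iff.1 h
    exact hs k hk
  · refine (hsu k).of_dvd (mul_dvd_mul_right ?_ _)
    exact Finset.dvd_prod_of_mem s (Finset.mem_univ k)

end Groth.Agent.H71.PicExt
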