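import Groth.Agent.H54.DiscGlue

/-!
helper71: a module `M` on `X` with bases over the opens `O i ⊓ U` (`O i` a cover of `X`) whose
transition functions extend to a unit cocycle on the `O i ⊓ O j` agrees over `U` with an
invertible module on `X` (variant of `H54.DiscGlue.exists_invertible_extension` with the extended
cocycle as a datum).
-/

set_option autoImplicit false
universe u
open CategoryTheory CategoryTheory.Limits AlgebraicGeometry TopologicalSpace Opposite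

namespace Groth.Agent.H71.PicExt

open Groth.Agent.H18 Groth.Agent.H18.PUP Groth.Agent.H18.STL Groth.Agent.H54
  Groth.Agent.H54.DiscGlue

variable {X : Scheme.{u}}

theorem exists_invertible_of_cocycle (U : X.Opens) (M : X.Modules) {ι : Type u}
    (O : ι → X.Opens) (hcov : iSup O = ⊤)
    (b : ∀ i, Γ(M, O i ⊓ U)) (hb : ∀ i, IsBasisOn M (O i ⊓ U) (b i))
    (η : ∀ i j : ι, (Γ(X, O i ⊓ O j))ˣ)
    (hη : ∀ i j k : ι,
      X.presheaf.map (homOfLE (inf_le_inf_right (O k) inf_le_left :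
          O i ⊓ O j ⊓ O k ≤ O i ⊓ O k)).op (η i k : Γ(X, O i ⊓ O k)) =
        X.presheaf.map (homOfLE (inf_le_left : O i ⊓ O j ⊓ O k ≤ O i ⊓ O j)).op
            (η i j : Γ(X, O i ⊓ O j)) *
          X.presheaf.map (homOfLE (inf_le_inf_right (O k) inf_le_right :
            O i ⊓ O j ⊓ O k ≤ O j ⊓ O k)).op (η j k : Γ(X, O j ⊓ O k)))
    (hrel : ∀ i j : ι,
      mres M (inf_le_inf_right U inf_le_left : (O i ⊓ O j) ⊓ U ≤ O i ⊓ U) (b i) =
        rres X (inf_le_left : (O i ⊓ O j) ⊓ U ≤ O i ⊓ O j) (η i j : Γ(X, O i ⊓ O j)) •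
          mres M (inf_le_inf_right U inf_le_right : (O i ⊓ O j) ⊓ U ≤ O j ⊓ U) (b j)) :
    ∃ L' : X.Modules, PicF.IsInvertible L' ∧ Nonempty (L'.restrict U.ι ≅ M.restrict U.ι) := by
  obtain ⟨L', s, hinv, hbij, hrelL⟩ := CocycleGlue.main O η hη hcov
  refine ⟨L', hinv, ?_⟩
  have hsb : ∀ y, IsBasisOn L' (O y) (s y) := fun y V h => hbij y V h
  let V' : ι → (U : Scheme.{u}).Opens := fun y => U.ι ⁻¹ᵁ (O y)
  have hV'cov : iSup V' = ⊤ := by
    rw [eq_top_iff]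
    intro y _
    have hy : U.ι y ∈ iSup O := by rw [hcov]; trivial
    obtain ⟨i, hi⟩ := Opens.mem_iSup.mp hy
    exact Opens.mem_iSup.mpr ⟨i, hi⟩
  have h1 : ∀ y, U.ι ''ᵁ (V' y) ≤ O y := fun y => image_preimage_ι_le U (O y)
  have h2 : ∀ y, U.ι ''ᵁ (V' y) ≤ O y ⊓ U := fun y => le_inf (h1 y) (image_ι_le U (V' y))
  have hle : ∀ y z, U.ι ''ᵁ (V' y ⊓ V' z) ≤ O y ⊓ O z := fun y z =>
    le_inf ((U.ι.image_mono inf_le_left).trans (h1 y)) ((U.ι.image_mono inf_le_right).trans (h1 z))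
  have hle' : ∀ y z, U.ι ''ᵁ (V' y ⊓ V' z) ≤ (O y ⊓ U) ⊓ (O z ⊓ U) := fun y z =>
    le_inf ((U.ι.image_mono inf_le_left).trans (h2 y)) ((U.ι.image_mono inf_le_right).trans (h2 z))
  -- the restricted cocycle
  have hPle : ∀ y z, (O y ⊓ U) ⊓ (O z ⊓ U) ≤ O y ⊓ O z := fun y z =>
    le_inf (inf_le_left.trans inf_le_left) (inf_le_right.trans inf_le_left)
  have hPle' : ∀ y z, (O y ⊓ U) ⊓ (O z ⊓ U) ≤ (O y ⊓ O z) ⊓ U := fun y z =>
    le_inf (hPle y z) (inf_le_left.trans inf_le_right)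
  let ζ : ∀ y z, Γ(X, (O y ⊓ U) ⊓ (O z ⊓ U)) := fun y z =>
    rres X (hPle y z) (η y z : Γ(X, O y ⊓ O z))
  have hζrel : ∀ y z, mres M (inf_le_left : (O y ⊓ U) ⊓ (O z ⊓ U) ≤ O y ⊓ U) (b y) =
      ζ y z • mres M (inf_le_right : (O y ⊓ U) ⊓ (O z ⊓ U) ≤ O z ⊓ U) (b z) := by
    intro y z
    have h := congrArg (mres M (hPle' y z)) (hrel y z)
    rw [mres_smul, mres_mres, mres_mres] at h
    rw [h]
    congr 1
    exact rres_rres _ _ _
  have hcoef : ∀ y z, rres X (hle y z) (η y z : Γ(X, O y ⊓ O z)) =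
      rres X (hle' y z) (ζ y z) := by
    intro y z
    exact (rres_rres _ _ _).symm
  refine CocycleIso.iso_of_units V' hV'cov (L'.restrict U.ι) (M.restrict U.ι)
    (fun y => toRestrict U L' (V' y) (mres L' (h1 y) (s y)))
    (fun y => toRestrict U M (V' y) (mres M (h2 y) (b y)))
    (fun y V h => isBasisOn_restrict ((hsb y).mono (h1 y)) V h)
    (fun y V h => isBasisOn_restrict ((hb y).mono (h2 y)) V h)
    (fun y z => (U.ι.appIso (V' y ⊓ V' z)).hom
      (rres X (hle y z) (η y z : Γ(X, O y ⊓ O z))))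
    (fun y z => (U.ι.appIso (V' y ⊓ V' z)).hom
      (rres X (hle y z) (η y z : Γ(X, O y ⊓ O z))))
    (fun y z => restrict_rel U L' (s y) (s z) _ (hrelL y z) (h1 y) (h1 z))
    (fun y z => by
      rw [hcoef y z]
      exact restrict_rel U M (b y) (b z) _ (hζrel y z) (h2 y) (h2 z))
    (fun _ => 1) (fun y z => by simp)

end Groth.Agent.H71.PicExt
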