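import Groth.Agent.H71.PicExt.Chart
import Groth.Agent.H71.PicExt.Glue

/-!
helper71: an atlas whose charts, together with an open `W₀` disjoint from `U`, cover `X` gives an
invertible module on `X` agreeing with `M` over `U`.
-/

set_option autoImplicit false
universe u
open CategoryTheory CategoryTheory.Limits AlgebraicGeometry TopologicalSpace Opposite

namespace Groth.Agent.H71.PicExt

open Groth.Agent.H18 Groth.Agent.H18.PUP Groth.Agent.H18.STL

variable {X : Scheme.{u}} {U : X.Opens} {M : X.Modules}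

theorem fun_subsingleton_of_forall_not_mem {T : X.Opens} (hT : ∀ x, x ∉ T) (r r' : Γ(X, T)) :
    r = r' :=
  fun_eq_of_locally_eq r r' (fun x hx => absurd hx (hT x))

theorem mod_subsingleton_of_forall_not_mem (M : X.Modules) {T : X.Opens} (hT : ∀ x, x ∉ T)
    (s s' : Γ(M, T)) : s = s' :=
  modules_eq_of_locally_eq M s s' (fun x hx => absurd hx (hT x))

theorem isBasisOn_of_forall_not_mem (M : X.Modules) {T : X.Opens} (hT : ∀ x, x ∉ T)
    (t : Γ(M, T)) : IsBasisOn M T t := by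
  intro V hV
  have hV' : ∀ x, x ∉ V := fun x hx => hT x (hV hx)
  exact ⟨fun r r' _ => fun_subsingleton_of_forall_not_mem hV' r r',
    fun y => ⟨0, mod_subsingleton_of_forall_not_mem M hV' _ _⟩⟩

/-- functions on an open of a chart which misses `U` are all equal -/
theorem Chart.fun_subsingleton (a : Chart U M) {T : X.Opens} (hT : T ≤ a.V)
    (hTU : ∀ x, x ∈ T → x ∉ U) (r r' : Γ(X, T)) : r = r' := by
  apply a.dense T hT
  exact fun_subsingleton_of_forall_not_mem (by intro x hx; exact hTU x hx.1 hx.2) _ _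

section assemble

variable (𝓕 : Set (Chart U M)) (h𝓕 : IsAtlas 𝓕) (W₀ : X.Opens)

/-- the cover -/
def coverOpen : Option 𝓕 → X.Opens
  | none => W₀
  | some a => a.1.V

/-- the bases -/
noncomputable def coverBasis : ∀ i : Option 𝓕, Γ(M, coverOpen 𝓕 W₀ i ⊓ U)
  | none => 0
  | some a => a.1.e

/-- the cocycle -/
noncomputable def coverUnit :
    ∀ i j : Option 𝓕, (Γ(X, coverOpen 𝓕 W₀ i ⊓ coverOpen 𝓕 W₀ j))ˣ
  | some a, some b => (h𝓕 a.1 a.2 b.1 b.2).unit
  | some _, none => 1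
  | none, some _ => 1
  | none, none => 1

include h𝓕 in
theorem exists_invertible_of_atlas (hW₀ : ∀ x, x ∈ W₀ → x ∉ U)
    (hcov : ∀ x : X, x ∈ W₀ ∨ ∃ a ∈ 𝓕, x ∈ a.V) :
    ∃ L' : X.Modules, PicF.IsInvertible L' ∧ Nonempty (L'.restrict U.ι ≅ M.restrict U.ι) := by
  refine exists_invertible_of_cocycle U M (coverOpen 𝓕 W₀) ?_ (coverBasis 𝓕 W₀) ?_
    (coverUnit 𝓕 h𝓕 W₀) ?_ ?_
  · rw [eq_top_iff]
    intro x _
    rcases hcov x with hx | ⟨a, ha, hx⟩
    · exact Opens.mem_iSup.mpr ⟨none, hx⟩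
    · exact Opens.mem_iSup.mpr ⟨some ⟨a, ha⟩, hx⟩
  · rintro (_ | a)
    · exact isBasisOn_of_forall_not_mem M (by intro x hx; exact hW₀ x hx.1 hx.2) _
    · exact a.1.basis
  · -- the cocycle condition
    have key : ∀ (a : 𝓕) (T : X.Opens) (hTa : T ≤ a.1.V) (hTW : T ≤ W₀) (r r' : Γ(X, T)),
        r = r' := fun a T hTa hTW r r' =>
      a.1.fun_subsingleton hTa (fun x hx => hW₀ x (hTW hx)) r r'
    rintro (_ | a) (_ | b) (_ | d)
    · simp [coverUnit]
    · exact key d _ inf_le_right (inf_le_left.trans inf_le_left) _ _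
    · exact key b _ (inf_le_left.trans inf_le_right) (inf_le_left.trans inf_le_left) _ _
    · exact key b _ (inf_le_left.trans inf_le_right) (inf_le_left.trans inf_le_left) _ _
    · exact key a _ (inf_le_left.trans inf_le_left) (inf_le_left.trans inf_le_right) _ _
    · exact key a _ (inf_le_left.trans inf_le_left) (inf_le_left.trans inf_le_right) _ _
    · exact key a _ (inf_le_left.trans inf_le_left) inf_le_right _ _
    · -- three charts
      have h1 := (h𝓕 a.1 a.2 d.1 d.2).unit_rel.res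
        (inf_le_inf_right d.1.V inf_le_left : a.1.V ⊓ b.1.V ⊓ d.1.V ≤ a.1.V ⊓ d.1.V)
      have h2 := (h𝓕 a.1 a.2 b.1 b.2).unit_rel.res
        (inf_le_left : a.1.V ⊓ b.1.V ⊓ d.1.V ≤ a.1.V ⊓ b.1.V)
      have h3 := (h𝓕 b.1 b.2 d.1 d.2).unit_rel.res
        (inf_le_inf_right d.1.V inf_le_right : a.1.V ⊓ b.1.V ⊓ d.1.V ≤ b.1.V ⊓ d.1.V)
      exact h1.unique (h2.trans h3)
  · rintro (_ | a) (_ | b)
    · exact mod_subsingleton_of_forall_not_mem M (by intro x hx; exact hW₀ x hx.1.1 hx.2) _ _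
    · exact mod_subsingleton_of_forall_not_mem M (by intro x hx; exact hW₀ x hx.1.1 hx.2) _ _
    · exact mod_subsingleton_of_forall_not_mem M (by intro x hx; exact hW₀ x hx.1.2 hx.2) _ _
    · exact (h𝓕 a.1 a.2 b.1 b.2).unit_rel

end assemble

end Groth.Agent.H71.PicExt
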