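import Groth.Agent.H18.PUP.LocalBasis
import Groth.Agent.H71.PicExt.AlgCore

/-!
helper71: for an affine open `V₀` with `Γ(X, V₀)` a domain with fraction field `K`: the embeddings
`Γ(X, D(g)) → K` and `O_{X,x₀} → K`, and the dictionary between units of `Γ(X, D(g))` and
`IsAwayUnit g`.
-/

set_option autoImplicit false
universe u
open CategoryTheory CategoryTheory.Limits AlgebraicGeometry TopologicalSpace Opposite

namespace Groth.Agent.H71.PicExt

open Groth.Agent.H18.PUP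

variable {X : Scheme.{u}} {V₀ : X.Opens} (hV₀ : IsAffineOpen V₀) [IsDomain Γ(X, V₀)]

/-- the embedding `Γ(X, D(g)) → Frac Γ(X, V₀)` -/
noncomputable def rho (g : Γ(X, V₀)) (hg : g ≠ 0) :
    Γ(X, X.basicOpen g) →+* FractionRing Γ(X, V₀) :=
  haveI := hV₀.isLocalization_basicOpen g
  IsLocalization.Away.lift g (g := algebraMap Γ(X, V₀) (FractionRing Γ(X, V₀)))
    (IsUnit.mk0 _ ((map_ne_zero_iff _ (IsFractionRing.injective _ _)).2 hg))

theorem rho_algebraMap (g : Γ(X, V₀)) (hg : g ≠ 0) (b : Γ(X, V₀)) :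
    rho hV₀ g hg (algebraMap Γ(X, V₀) Γ(X, X.basicOpen g) b) =
      algebraMap Γ(X, V₀) (FractionRing Γ(X, V₀)) b := by
  haveI := hV₀.isLocalization_basicOpen g
  exact IsLocalization.Away.lift_eq g _ b

theorem rho_rres (g : Γ(X, V₀)) (hg : g ≠ 0) (b : Γ(X, V₀)) :
    rho hV₀ g hg (rres X (X.basicOpen_le g) b) =
      algebraMap Γ(X, V₀) (FractionRing Γ(X, V₀)) b :=
  rho_algebraMap hV₀ g hg b

include hV₀ in
theorem algebraMap_basicOpen_injective (g : Γ(X, V₀)) (hg : g ≠ 0) :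
    Function.Injective (algebraMap Γ(X, V₀) Γ(X, X.basicOpen g)) := by
  haveI := hV₀.isLocalization_basicOpen g
  exact IsLocalization.injective _ (powers_le_nonZeroDivisors_of_noZeroDivisors hg)

theorem rho_injective (g : Γ(X, V₀)) (hg : g ≠ 0) : Function.Injective (rho hV₀ g hg) := by
  haveI := hV₀.isLocalization_basicOpen g
  unfold rho IsLocalization.Away.lift
  rw [IsLocalization.lift_injective_iff]
  intro a b
  rw [(algebraMap_basicOpen_injective hV₀ g hg).eq_iff,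
    (IsFractionRing.injective Γ(X, V₀) (FractionRing Γ(X, V₀))).eq_iff]

/-- compatibility with restriction between basic opens -/
theorem rho_res (g g' : Γ(X, V₀)) (hg : g ≠ 0) (hg' : g' ≠ 0)
    (h : X.basicOpen g' ≤ X.basicOpen g) (r : Γ(X, X.basicOpen g)) :
    rho hV₀ g' hg' (rres X h r) = rho hV₀ g hg r := by
  haveI := hV₀.isLocalization_basicOpen g
  have key : (rho hV₀ g' hg').comp (rres X h).hom = rho hV₀ g hg := by
    refine IsLocalization.ringHom_ext (Submonoid.powers g) ?_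
    ext b
    simp only [RingHom.comp_apply]
    rw [rho_algebraMap]
    have : (rres X h).hom (algebraMap Γ(X, V₀) Γ(X, X.basicOpen g) b) =
        algebraMap Γ(X, V₀) Γ(X, X.basicOpen g') b := by
      change rres X h (rres X (X.basicOpen_le g) b) = rres X (X.basicOpen_le g') b
      exact rres_rres _ _ _
    rw [this, rho_algebraMap]
  exact congrArg (fun φ : Γ(X, X.basicOpen g) →+* FractionRing Γ(X, V₀) => φ r) key

/-- a unit of `B[1/g]` in `K` is the image of a unit of `Γ(X, D(g))` -/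
theorem exists_unit_of_isAwayUnit (g : Γ(X, V₀)) (hg : g ≠ 0) {x : FractionRing Γ(X, V₀)}
    (hx : IsAwayUnit g x) : ∃ d : (Γ(X, X.basicOpen g))ˣ, rho hV₀ g hg d = x := by
  haveI := hV₀.isLocalization_basicOpen g
  obtain ⟨α, β, ⟨n, hn⟩, ⟨m, hm⟩, hx⟩ := hx
  have hgu : IsUnit (algebraMap Γ(X, V₀) Γ(X, X.basicOpen g) g) :=
    IsLocalization.Away.algebraMap_isUnit g
  have hαu : IsUnit (algebraMap Γ(X, V₀) Γ(X, X.basicOpen g) α) := by
    refine isUnit_of_dvd_unit (map_dvd _ hn) ?_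
    rw [map_pow]
    exact hgu.pow n
  have hβu : IsUnit (algebraMap Γ(X, V₀) Γ(X, X.basicOpen g) β) := by
    refine isUnit_of_dvd_unit (map_dvd _ hm) ?_
    rw [map_pow]
    exact hgu.pow m
  have hβ0 : algebraMap Γ(X, V₀) (FractionRing Γ(X, V₀)) β ≠ 0 := by
    rw [map_ne_zero_iff _ (IsFractionRing.injective _ _)]
    rintro rfl
    rw [zero_dvd_iff] at hm
    exact pow_ne_zero m hg hm
  refine ⟨hαu.unit * hβu.unit⁻¹, ?_⟩
  have h1 : rho hV₀ g hg ((hαu.unit * hβu.unit⁻¹ : (Γ(X, X.basicOpen g))ˣ) : Γ(X, X.basicOpen g)) *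
      algebraMap Γ(X, V₀) (FractionRing Γ(X, V₀)) β =
      algebraMap Γ(X, V₀) (FractionRing Γ(X, V₀)) α := by
    rw [← rho_algebraMap hV₀ g hg β, ← rho_algebraMap hV₀ g hg α, ← map_mul]
    congr 1
    rw [Units.val_mul, mul_assoc]
    have : ((hβu.unit⁻¹ : (Γ(X, X.basicOpen g))ˣ) : Γ(X, X.basicOpen g)) *
        algebraMap Γ(X, V₀) Γ(X, X.basicOpen g) β = 1 := by
      have := hβu.unit.inv_mul
      rwa [IsUnit.unit_spec] at this
    rw [this, mul_one, IsUnit.unit_spec]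
  exact mul_right_cancel₀ hβ0 (h1.trans hx.symm)

/-- the image in `K` of a unit of `Γ(X, D(g))` is a unit of `B[1/g]` -/
theorem isAwayUnit_of_unit (g : Γ(X, V₀)) (hg : g ≠ 0) (d : (Γ(X, X.basicOpen g))ˣ) :
    IsAwayUnit g (rho hV₀ g hg d) := by
  haveI := hV₀.isLocalization_basicOpen g
  obtain ⟨⟨a, ⟨_, n, rfl⟩⟩, ha⟩ := IsLocalization.surj (Submonoid.powers g) (d : Γ(X, X.basicOpen g))
  obtain ⟨⟨a', ⟨_, m, rfl⟩⟩, ha'⟩ := IsLocalization.surj (Submonoid.powers g)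
    ((d⁻¹ : (Γ(X, X.basicOpen g))ˣ) : Γ(X, X.basicOpen g))
  simp only at ha ha'
  have h1 : a * a' = g ^ (n + m) := by
    apply algebraMap_basicOpen_injective hV₀ g hg
    rw [map_mul, ← ha, ← ha', pow_add, map_mul]
    calc (d : Γ(X, X.basicOpen g)) * _ * (((d⁻¹ : (Γ(X, X.basicOpen g))ˣ) : Γ(X, X.basicOpen g)) * _)
        = ((d : Γ(X, X.basicOpen g)) * ((d⁻¹ : (Γ(X, X.basicOpen g))ˣ) : Γ(X, X.basicOpen g))) *
          (algebraMap Γ(X, V₀) Γ(X, X.basicOpen g) (g ^ n) *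
            algebraMap Γ(X, V₀) Γ(X, X.basicOpen g) (g ^ m)) := by ring
      _ = _ := by rw [Units.mul_inv, one_mul]
  refine ⟨a, g ^ n, ⟨n + m, Dvd.intro a' h1⟩, ⟨n, dvd_rfl⟩, ?_⟩
  rw [← rho_algebraMap hV₀ g hg (g ^ n), ← rho_algebraMap hV₀ g hg a, ← map_mul, ha]

section stalk

variable {x₀ : X} (hx₀ : x₀ ∈ V₀)

/-- the embedding `O_{X,x₀} → Frac Γ(X, V₀)` -/
noncomputable def psi : X.presheaf.stalk x₀ →+* FractionRing Γ(X, V₀) :=
  letI := X.presheaf.algebra_section_stalk ⟨x₀, hx₀⟩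
  haveI := hV₀.isLocalization_stalk ⟨x₀, hx₀⟩
  IsLocalization.lift (M := (hV₀.primeIdealOf ⟨x₀, hx₀⟩).asIdeal.primeCompl)
    (g := algebraMap Γ(X, V₀) (FractionRing Γ(X, V₀)))
    (fun y => IsUnit.mk0 _ ((map_ne_zero_iff _ (IsFractionRing.injective _ _)).2
      (fun h => y.2 (h ▸ Ideal.zero_mem _))))

theorem psi_germ (b : Γ(X, V₀)) :
    psi hV₀ hx₀ (X.presheaf.germ V₀ x₀ hx₀ b) =
      algebraMap Γ(X, V₀) (FractionRing Γ(X, V₀)) b := by
  letI := X.presheaf.algebra_section_stalk ⟨x₀, hx₀⟩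
  haveI := hV₀.isLocalization_stalk ⟨x₀, hx₀⟩
  exact IsLocalization.lift_eq _ b

theorem psi_injective : Function.Injective (psi hV₀ hx₀) := by
  letI := X.presheaf.algebra_section_stalk ⟨x₀, hx₀⟩
  haveI := hV₀.isLocalization_stalk ⟨x₀, hx₀⟩
  unfold psi
  rw [IsLocalization.lift_injective_iff]
  intro a b
  rw [(IsLocalization.injective (X.presheaf.stalk x₀)
    (hV₀.primeIdealOf ⟨x₀, hx₀⟩).asIdeal.primeCompl_le_nonZeroDivisors).eq_iff,
    (IsFractionRing.injective Γ(X, V₀) (FractionRing Γ(X, V₀))).eq_iff]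

include hV₀ in
/-- `x₀ ∈ D(s)` when `s` is not in the prime of `x₀` -/
theorem mem_basicOpen_of_notMem (s : Γ(X, V₀))
    (hs : s ∉ (hV₀.primeIdealOf ⟨x₀, hx₀⟩).asIdeal) : x₀ ∈ X.basicOpen s := by
  letI := X.presheaf.algebra_section_stalk ⟨x₀, hx₀⟩
  haveI := hV₀.isLocalization_stalk ⟨x₀, hx₀⟩
  rw [X.mem_basicOpen s x₀ hx₀]
  exact (IsLocalization.AtPrime.isUnit_to_map_iff (X.presheaf.stalk x₀)
    (hV₀.primeIdealOf ⟨x₀, hx₀⟩).asIdeal s).2 hs

end stalk

end Groth.Agent.H71.PicExt
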