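import Groth.Agent.H71.PicExt.Chart
import Groth.Agent.H71.PicExt.Frac
import Groth.Agent.H71.PicExt.Assemble

/-!
helper71: the local step.  Near a point `x₀` with factorial local ring, inside an integral affine
open `V₀`, an atlas covering `V₀ ⊓ ⋃ 𝓕` by finitely many basic opens `D(f k) ≤ (a k).V` admits a
new chart around `x₀` compatible with all charts of the atlas.
-/

set_option autoImplicit false
universe u
open CategoryTheory CategoryTheory.Limits AlgebraicGeometry TopologicalSpace Opposite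

namespace Groth.Agent.H71.PicExt

open Groth.Agent.H18 Groth.Agent.H18.PUP Groth.Agent.H18.STL

variable {X : Scheme.{u}} {U : X.Opens} {M : X.Modules}

section setup

variable (𝓕 : Set (Chart U M)) (h𝓕 : IsAtlas 𝓕) {V₀ : X.Opens} (hV₀ : IsAffineOpen V₀)
  [IsDomain Γ(X, V₀)] {κ : Type u} (f : κ → Γ(X, V₀)) (hf : ∀ k, f k ≠ 0)
  (a : κ → Chart U M) (ha : ∀ k, a k ∈ 𝓕) (hfa : ∀ k, X.basicOpen (f k) ≤ (a k).V)

/-- the transition units between the chosen charts -/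
noncomputable def cc (k l : κ) : (Γ(X, (a k).V ⊓ (a l).V))ˣ :=
  (h𝓕 (a k) (ha k) (a l) (ha l)).unit

theorem cc_rel (k l : κ) :
    Rel (a k) (a l) ((a k).V ⊓ (a l).V) inf_le_left inf_le_right
      (cc 𝓕 h𝓕 a ha k l : Γ(X, (a k).V ⊓ (a l).V)) :=
  (h𝓕 (a k) (ha k) (a l) (ha l)).unit_rel

omit [IsDomain Γ(X, V₀)] in
include hfa in
theorem basicOpen_mul_le (k l : κ) : X.basicOpen (f k * f l) ≤ (a k).V ⊓ (a l).V := by
  rw [Scheme.basicOpen_mul]
  exact inf_le_inf (hfa k) (hfa l)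

/-- the image in `K` of the transition unit -/
noncomputable def Gam (k l : κ) : FractionRing Γ(X, V₀) :=
  rho hV₀ (f k * f l) (mul_ne_zero (hf k) (hf l))
    (rres X (basicOpen_mul_le f a hfa k l) (cc 𝓕 h𝓕 a ha k l : Γ(X, (a k).V ⊓ (a l).V)))

theorem Gam_isAwayUnit (k l : κ) : IsAwayUnit (f k * f l) (Gam 𝓕 h𝓕 hV₀ f hf a ha hfa k l) := by
  have h := isAwayUnit_of_unit hV₀ (f k * f l) (mul_ne_zero (hf k) (hf l))
    (Units.map (rres X (basicOpen_mul_le f a hfa k l)).hom.toMonoidHom (cc 𝓕 h𝓕 a ha k l))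
  exact h

/-- `ρ` of the restriction of a transition unit to a smaller basic open -/
theorem rho_cc (k l : κ) (g : Γ(X, V₀)) (hg : g ≠ 0)
    (h : X.basicOpen g ≤ X.basicOpen (f k * f l)) :
    rho hV₀ g hg (rres X (h.trans (basicOpen_mul_le f a hfa k l))
      (cc 𝓕 h𝓕 a ha k l : Γ(X, (a k).V ⊓ (a l).V))) = Gam 𝓕 h𝓕 hV₀ f hf a ha hfa k l := by
  rw [← rres_rres (basicOpen_mul_le f a hfa k l) h]
  exact rho_res hV₀ _ _ _ _ h _

theorem Gam_cocycle (k l m : κ) :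
    Gam 𝓕 h𝓕 hV₀ f hf a ha hfa k m =
      Gam 𝓕 h𝓕 hV₀ f hf a ha hfa k l * Gam 𝓕 h𝓕 hV₀ f hf a ha hfa l m := by
  have hg : f k * f l * f m ≠ 0 := mul_ne_zero (mul_ne_zero (hf k) (hf l)) (hf m)
  have hkm : X.basicOpen (f k * f l * f m) ≤ X.basicOpen (f k * f m) := by
    rw [Scheme.basicOpen_mul, Scheme.basicOpen_mul, Scheme.basicOpen_mul]
    exact le_inf (inf_le_left.trans inf_le_left) inf_le_right
  have hkl : X.basicOpen (f k * f l * f m) ≤ X.basicOpen (f k * f l) := by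
    rw [Scheme.basicOpen_mul (f := f k * f l)]
    exact inf_le_left
  have hlm : X.basicOpen (f k * f l * f m) ≤ X.basicOpen (f l * f m) := by
    rw [Scheme.basicOpen_mul, Scheme.basicOpen_mul, Scheme.basicOpen_mul]
    exact le_inf (inf_le_left.trans inf_le_right) inf_le_right
  have r1 := (cc_rel 𝓕 h𝓕 a ha k m).res (hkm.trans (basicOpen_mul_le f a hfa k m))
  have r2 := (cc_rel 𝓕 h𝓕 a ha k l).res (hkl.trans (basicOpen_mul_le f a hfa k l))
  have r3 := (cc_rel 𝓕 h𝓕 a ha l m).res (hlm.trans (basicOpen_mul_le f a hfa l m))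
  have E := r1.unique (r2.trans r3)
  have E' := congrArg (rho hV₀ (f k * f l * f m) hg) E
  rw [map_mul, rho_cc 𝓕 h𝓕 hV₀ f hf a ha hfa k m _ hg hkm,
    rho_cc 𝓕 h𝓕 hV₀ f hf a ha hfa k l _ hg hkl, rho_cc 𝓕 h𝓕 hV₀ f hf a ha hfa l m _ hg hlm] at E'
  exact E'

variable [Fintype κ] (k₀ : κ) {x₀ : X} (hx₀ : x₀ ∈ V₀)
  [UniqueFactorizationMonoid (X.presheaf.stalk x₀)]
  (hint : ∀ (T T' : X.Opens) (h : T' ≤ T), T ≤ V₀ → (T' : Set X).Nonempty →
    Function.Injective (fun r : Γ(X, T) => rres X h r))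
  (hirr : ∀ T : X.Opens, T ≤ V₀ → (T : Set X).Nonempty → ((T ⊓ U : X.Opens) : Set X).Nonempty)
  (hUQ : ∀ x ∈ U, ∃ b ∈ 𝓕, x ∈ b.V)
  (hQ : ∀ x ∈ V₀, (∃ b ∈ 𝓕, x ∈ b.V) → ∃ k, x ∈ X.basicOpen (f k))

include h𝓕 hV₀ hf ha hfa hx₀ k₀ hint hirr hUQ hQ in
/-- **the local step** -/
theorem exists_chart_of_finite_cover :
    ∃ a₀ : Chart U M, x₀ ∈ a₀.V ∧ ∀ b ∈ 𝓕, Compat a₀ b := by
  classical
  -- the algebraic input
  letI := X.presheaf.algebra_section_stalk ⟨x₀, hx₀⟩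
  haveI := hV₀.isLocalization_stalk ⟨x₀, hx₀⟩
  haveI : IsDomain (X.presheaf.stalk x₀) := { }
  obtain ⟨G, hGu, hGc, hGρ⟩ : ∃ G : κ → κ → FractionRing Γ(X, V₀),
      (∀ k l, IsAwayUnit (f k * f l) (G k l)) ∧ (∀ k l m, G k m = G k l * G l m) ∧
      ∀ (k l : κ) (g : Γ(X, V₀)) (hg : g ≠ 0) (h : X.basicOpen g ≤ X.basicOpen (f k * f l)),
        rho hV₀ g hg (rres X (h.trans (basicOpen_mul_le f a hfa k l))
          (cc 𝓕 h𝓕 a ha k l : Γ(X, (a k).V ⊓ (a l).V))) = G k l :=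
    ⟨Gam 𝓕 h𝓕 hV₀ f hf a ha hfa, Gam_isAwayUnit 𝓕 h𝓕 hV₀ f hf a ha hfa,
      Gam_cocycle 𝓕 h𝓕 hV₀ f hf a ha hfa, rho_cc 𝓕 h𝓕 hV₀ f hf a ha hfa⟩
  have hG0 : ∀ k l, G k l ≠ 0 := fun k l => (hGu k l).ne_zero (mul_ne_zero (hf k) (hf l))
  obtain ⟨s, μ, hs, hμ⟩ := exists_common_normalisation
    (hV₀.primeIdealOf ⟨x₀, hx₀⟩).asIdeal (psi hV₀ hx₀) (psi_germ hV₀ hx₀) (psi_injective hV₀ hx₀)
    f hf (f k₀) (hf k₀) (fun k => G k₀ k) (fun k => hGu k₀ k)
    (fun k l => by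
      have e : G k₀ k / G k₀ l = G l k := by
        rw [div_eq_iff (hG0 k₀ l), hGc k₀ l k, mul_comm]
      rw [e]
      exact (hGu l k).of_dvd (dvd_of_eq (mul_comm _ _)))
  have hs0 : s ≠ 0 := fun h => hs (h ▸ Ideal.zero_mem _)
  have hsf : ∀ k, s * f k ≠ 0 := fun k => mul_ne_zero hs0 (hf k)
  choose d hd using fun k => exists_unit_of_isAwayUnit hV₀ (s * f k) (hsf k) (hμ k)
  -- the opens
  have hDs : ∀ k, X.basicOpen (s * f k) ≤ X.basicOpen s := fun k => by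
    rw [Scheme.basicOpen_mul]; exact inf_le_left
  have hDf : ∀ k, X.basicOpen (s * f k) ≤ X.basicOpen (f k) := fun k => by
    rw [Scheme.basicOpen_mul]; exact inf_le_right
  have hDa : ∀ k, X.basicOpen (s * f k) ≤ (a k).V := fun k => (hDf k).trans (hfa k)
  have hsV₀ : X.basicOpen s ≤ V₀ := X.basicOpen_le s
  have hcovQ : ∀ x ∈ X.basicOpen s, (∃ b ∈ 𝓕, x ∈ b.V) → ∃ k, x ∈ X.basicOpen (s * f k) := by
    intro x hx hb
    obtain ⟨k, hk⟩ := hQ x (hsV₀ hx) hb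
    refine ⟨k, ?_⟩
    rw [Scheme.basicOpen_mul]
    exact ⟨hx, hk⟩
  -- the key identity `d k * c k l = d l` on overlaps
  have key : ∀ (k l : κ) (T : X.Opens) (hTk : T ≤ X.basicOpen (s * f k))
      (hTl : T ≤ X.basicOpen (s * f l)),
      rres X hTk (d k : Γ(X, X.basicOpen (s * f k))) *
        rres X (le_inf (hTk.trans (hDa k)) (hTl.trans (hDa l)))
          (cc 𝓕 h𝓕 a ha k l : Γ(X, (a k).V ⊓ (a l).V)) =
      rres X hTl (d l : Γ(X, X.basicOpen (s * f l))) := by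
    intro k l T hTk hTl
    have hg : s * f k * (s * f l) ≠ 0 := mul_ne_zero (hsf k) (hsf l)
    have hGk : X.basicOpen (s * f k * (s * f l)) ≤ X.basicOpen (s * f k) := by
      rw [Scheme.basicOpen_mul (f := s * f k)]; exact inf_le_left
    have hGl : X.basicOpen (s * f k * (s * f l)) ≤ X.basicOpen (s * f l) := by
      rw [Scheme.basicOpen_mul (f := s * f k)]; exact inf_le_right
    have hGkl : X.basicOpen (s * f k * (s * f l)) ≤ X.basicOpen (f k * f l) := by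
      rw [Scheme.basicOpen_mul (f := f k)]
      exact le_inf (hGk.trans (hDf k)) (hGl.trans (hDf l))
    -- on the basic open
    have E : rres X hGk (d k : Γ(X, X.basicOpen (s * f k))) *
        rres X (hGkl.trans (basicOpen_mul_le f a hfa k l))
          (cc 𝓕 h𝓕 a ha k l : Γ(X, (a k).V ⊓ (a l).V)) =
        rres X hGl (d l : Γ(X, X.basicOpen (s * f l))) := by
      apply rho_injective hV₀ _ hg
      rw [map_mul, rho_res hV₀ _ _ (hsf k) hg hGk, rho_res hV₀ _ _ (hsf l) hg hGl,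
        hGρ k l _ hg hGkl, hd k, hd l]
      rw [hGc k₀ k l]
      ring
    have hTG : T ≤ X.basicOpen (s * f k * (s * f l)) := by
      rw [Scheme.basicOpen_mul (f := s * f k)]
      exact le_inf hTk hTl
    have E' := congrArg (rres X hTG) E
    rw [map_mul, rres_rres, rres_rres, rres_rres] at E'
    exact E'
  -- the local sections
  let W : κ → X.Opens := fun k => X.basicOpen (s * f k) ⊓ U
  let σ : ∀ k, Γ(M, W k) := fun k =>
    rres X (inf_le_left : X.basicOpen (s * f k) ⊓ U ≤ X.basicOpen (s * f k))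
        (d k : Γ(X, X.basicOpen (s * f k))) •
      mres M (inf_le_inf_right U (hDa k) : X.basicOpen (s * f k) ⊓ U ≤ (a k).V ⊓ U) (a k).e
  have hWV : ∀ k, W k ≤ X.basicOpen s ⊓ U := fun k => inf_le_inf_right U (hDs k)
  have hcov : ∀ x ∈ X.basicOpen s ⊓ U, ∃ k, x ∈ W k := by
    rintro x ⟨hx, hxU⟩
    obtain ⟨k, hk⟩ := hcovQ x hx (hUQ x hxU)
    exact ⟨k, hk, hxU⟩
  have hσ : ∀ k l, mres M (inf_le_left : W k ⊓ W l ≤ W k) (σ k) =
      mres M (inf_le_right : W k ⊓ W l ≤ W l) (σ l) := by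
    intro k l
    have hTk : W k ⊓ W l ≤ X.basicOpen (s * f k) := inf_le_left.trans inf_le_left
    have hTl : W k ⊓ W l ≤ X.basicOpen (s * f l) := inf_le_right.trans inf_le_left
    have hTU : W k ⊓ W l ≤ U := inf_le_left.trans inf_le_right
    -- the relation between `e_k` and `e_l` on `W k ⊓ W l`
    have hrel := (cc_rel 𝓕 h𝓕 a ha k l).res
      (le_inf (hTk.trans (hDa k)) (hTl.trans (hDa l)) : W k ⊓ W l ≤ (a k).V ⊓ (a l).V)
    unfold Rel at hrel
    have hrel' := congrArg (mres M (le_inf le_rfl hTU : W k ⊓ W l ≤ (W k ⊓ W l) ⊓ U)) hrel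
    rw [mres_smul, mres_mres, mres_mres, rres_rres] at hrel'
    change mres M _ (_ • mres M _ (a k).e) = mres M _ (_ • mres M _ (a l).e)
    rw [mres_smul, mres_smul, mres_mres, mres_mres, rres_rres, rres_rres, hrel', ← mul_smul]
    congr 1
    rw [rres_rres]
    exact key k l (W k ⊓ W l) hTk hTl
  obtain ⟨e, he⟩ := exists_glue M W (X.basicOpen s ⊓ U) hWV hcov σ hσ
  -- the new chart
  have hbasis : IsBasisOn M (X.basicOpen s ⊓ U) e := by
    refine Groth.Agent.H67.BasisLocal.isBasisOn_of_locally e (fun x hx => ?_)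
    obtain ⟨k, hk⟩ := hcov x hx
    refine ⟨W k, hWV k, hk, ?_⟩
    rw [he k]
    exact Groth.Agent.H67.BasisLocal.isBasisOn_smul_of_isUnit ((a k).basis.mono _) _
      ((d k).isUnit.map _)
  have hdense : ∀ T : X.Opens, T ≤ X.basicOpen s →
      Function.Injective (fun r : Γ(X, T) => rres X (inf_le_left : T ⊓ U ≤ T) r) := by
    intro T hT
    by_cases hne : (T : Set X).Nonempty
    · exact hint T (T ⊓ U) inf_le_left (hT.trans hsV₀) (hirr T (hT.trans hsV₀) hne)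
    · intro r r' _
      exact fun_subsingleton_of_forall_not_mem (fun x hx => hne ⟨x, hx⟩) r r'
  let a₀ : Chart U M := ⟨X.basicOpen s, e, hbasis, hdense⟩
  refine ⟨a₀, mem_basicOpen_of_notMem hV₀ hx₀ s hs, fun b hb => ?_⟩
  -- the relation between the new chart and `a k`
  have hrel₀ : ∀ k, Rel a₀ (a k) (X.basicOpen (s * f k)) (hDs k) (hDa k)
      (d k : Γ(X, X.basicOpen (s * f k))) := fun k => he k
  have hrel₀' : ∀ k, Rel (a k) a₀ (X.basicOpen (s * f k)) (hDa k) (hDs k)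
      ((d k)⁻¹ : (Γ(X, X.basicOpen (s * f k)))ˣ) := fun k => (hrel₀ k).symm (d k).inv_mul
  refine compat_of_locally a₀ b (fun x hx => ?_)
  obtain ⟨k, hk⟩ := hcovQ x hx.1 ⟨b, hb, hx.2⟩
  have hT'k : X.basicOpen (s * f k) ⊓ b.V ≤ X.basicOpen (s * f k) := inf_le_left
  have hT'ab : X.basicOpen (s * f k) ⊓ b.V ≤ (a k).V ⊓ b.V := inf_le_inf_right _ (hDa k)
  refine ⟨X.basicOpen (s * f k) ⊓ b.V, inf_le_inf_right _ (hDs k), ⟨hk, hx.2⟩, ?_, ?_⟩
  · exact ⟨_, ((hrel₀ k).res hT'k).trans ((h𝓕 (a k) (ha k) b hb).unit_rel.res hT'ab)⟩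
  · have hT'ba : X.basicOpen (s * f k) ⊓ b.V ≤ b.V ⊓ (a k).V :=
      le_inf inf_le_right (inf_le_left.trans (hDa k))
    exact ⟨_, ((h𝓕 b hb (a k) (ha k)).unit_rel.res hT'ba).trans ((hrel₀' k).res hT'k)⟩

end setup

end Groth.Agent.H71.PicExt
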