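import Groth.Agent.H71.PicExt.Local
import Groth.Agent.H71.PicExt.Geom
import Groth.Agent.H54.DiscPic

/-!
helper71: **extension of invertible modules across points with factorial local rings.**
`X` locally Noetherian, `U ⊆ X` open, the local rings of `X` at the points outside `U` factorial.
Then every invertible module on `U` is the restriction of an invertible module on `X`.
-/

set_option autoImplicit false
universe u
open CategoryTheory CategoryTheory.Limits AlgebraicGeometry TopologicalSpace Opposite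

namespace Groth.Agent.H71.PicExt

open Groth.Agent.H18 Groth.Agent.H18.PUP Groth.Agent.H18.STL

variable {X : Scheme.{u}} {U : X.Opens} {M : X.Modules}

/-- over opens contained in `U` any two charts are related -/
theorem exists_rel_of_le (a b : Chart U M) (T : X.Opens) (ha : T ≤ a.V) (hb : T ≤ b.V)
    (hTU : T ≤ U) : ∃ c : Γ(X, T), Rel a b T ha hb c := by
  have hle : T ≤ T ⊓ U := le_inf le_rfl hTU
  obtain ⟨r, hr⟩ := (b.basis (T ⊓ U) (inf_le_inf_right U hb)).2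
    (mres M (inf_le_inf_right U ha) a.e)
  refine ⟨rres X hle r, ?_⟩
  unfold Rel
  rw [rres_rres, rres_self]
  exact hr.symm

/-- a chart inside `U` is compatible with every chart -/
theorem compat_of_le (a b : Chart U M) (h : a.V ≤ U) : Compat a b :=
  ⟨exists_rel_of_le a b _ _ _ (inf_le_left.trans h), exists_rel_of_le b a _ _ _ (inf_le_left.trans h)⟩

/-- charts around the points of `U` -/
theorem exists_chart_of_mem
    (hM : ∀ y ∈ U, ∃ (D : X.Opens) (β : Γ(M, D)), y ∈ D ∧ IsBasisOn M D β) (y : X) (hy : y ∈ U) :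
    ∃ a : Chart U M, y ∈ a.V ∧ a.V ≤ U := by
  obtain ⟨D, β, hyD, hβ⟩ := hM y hy
  refine ⟨⟨D ⊓ U, mres M (inf_le_left.trans inf_le_left) β, hβ.mono _, fun T hT => ?_⟩,
    ⟨hyD, hy⟩, inf_le_right⟩
  exact Groth.Agent.H54.DiscGlue.rres_injective_of_le _ (le_inf le_rfl (hT.trans inf_le_right))

/-- the main theorem, for a module on `X` which is locally free of rank one over `U` -/
theorem exists_invertible_extension [IsLocallyNoetherian X] (U : X.Opens) (M : X.Modules)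
    (hM : ∀ y ∈ U, ∃ (D : X.Opens) (β : Γ(M, D)), y ∈ D ∧ IsBasisOn M D β)
    (hufd : ∀ x : X, x ∉ U → UniqueFactorizationMonoid (X.presheaf.stalk x)) :
    ∃ L' : X.Modules, PicF.IsInvertible L' ∧ Nonempty (L'.restrict U.ι ≅ M.restrict U.ι) := by
  obtain ⟨𝓕, -, h𝓕, hmax⟩ := exists_maximal_atlas (∅ : Set (Chart U M))
    (fun a ha => absurd ha (Set.notMem_empty a))
  have hUQ : ∀ x ∈ U, ∃ b ∈ 𝓕, x ∈ b.V := by
    intro x hx
    obtain ⟨a, hxa, haU⟩ := exists_chart_of_mem hM x hx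
    exact ⟨a, hmax a (fun b _ => compat_of_le a b haU), hxa⟩
  let W₀ : X.Opens := ⟨interior (U : Set X)ᶜ, isOpen_interior⟩
  refine exists_invertible_of_atlas 𝓕 h𝓕 W₀ (fun x hx hxU => interior_subset hx hxU)
    (fun x₀ => ?_)
  by_contra hcon
  push Not at hcon
  obtain ⟨hxW₀, hx𝓕⟩ := hcon
  have hxU : x₀ ∉ U := fun h => by
    obtain ⟨b, hb, hxb⟩ := hUQ x₀ h
    exact hx𝓕 b hb hxb
  haveI := hufd x₀ hxU
  haveI : IsDomain (X.presheaf.stalk x₀) := { }
  obtain ⟨V₀, hV₀, hxV₀, hint⟩ := exists_good_affine_nhd x₀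
  haveI := hint
  haveI : IsDomain Γ(X, V₀) := isDomain_of_isIntegral V₀
  have hVU : ((V₀ ⊓ U : X.Opens) : Set X).Nonempty := by
    by_contra hne
    apply hxW₀
    exact mem_interior.mpr ⟨V₀, fun y hy hyU => hne ⟨y, hy, hyU⟩, V₀.isOpen, hxV₀⟩
  obtain ⟨κ, hκ, f, i, hf, hfi, hcov⟩ := exists_finite_basicOpen_cover hV₀
    (fun b : 𝓕 => b.1.V) {x | x ∈ V₀ ∧ ∃ b ∈ 𝓕, x ∈ b.V} (fun x hx => hx.1)
    (fun x hx => by obtain ⟨b, hb, hxb⟩ := hx.2; exact ⟨⟨b, hb⟩, hxb⟩)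
  obtain ⟨y, hyV, hyU⟩ := hVU
  obtain ⟨k₀, -⟩ := hcov y ⟨hyV, hUQ y hyU⟩
  obtain ⟨a₀, hxa₀, ha₀⟩ := exists_chart_of_finite_cover 𝓕 h𝓕 hV₀ f hf (fun k => (i k).1)
    (fun k => (i k).2) hfi k₀ hxV₀
    (fun T T' h hT hne => rres_injective_of_isIntegral V₀ T T' h hT hne)
    (fun T hT hne => inter_nonempty_of_isIntegral V₀ T U
      (by obtain ⟨z, hz⟩ := hne; exact ⟨z, hT hz, hz⟩) ⟨y, hyV, hyU⟩)
    hUQ (fun x hx hb => hcov x ⟨hx, hb⟩)
  exact hx𝓕 a₀ (hmax a₀ ha₀) hxa₀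

/-- **the extension theorem for invertible modules** -/
theorem main [IsLocallyNoetherian X] (U : X.Opens) (L : (U : Scheme.{u}).Modules)
    (hL : PicF.IsInvertible L)
    (hufd : ∀ x : X, x ∉ U → UniqueFactorizationMonoid (X.presheaf.stalk x)) :
    ∃ L' : X.Modules, PicF.IsInvertible L' ∧ Nonempty (L'.restrict U.ι ≅ L) := by
  set M := (Scheme.Modules.pushforward U.ι).obj L with hM_def
  have hM : ∀ y ∈ U, ∃ (D : X.Opens) (β : Γ(M, D)), y ∈ D ∧ IsBasisOn M D β := by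
    intro y hy
    obtain ⟨V', t, hyV', ht⟩ := exists_basis_of_isInvertible hL ⟨y, hy⟩
    exact ⟨U.ι ''ᵁ V', _, ⟨⟨y, hy⟩, hyV', rfl⟩,
      Groth.Agent.H54.DiscPic.isBasisOn_pushforward U L ht⟩
  obtain ⟨L', hL', ⟨e⟩⟩ := exists_invertible_extension U M hM hufd
  exact ⟨L', hL', ⟨e ≪≫ (Scheme.Modules.restrictFunctorAdjCounitIso U.ι).app L⟩⟩

end Groth.Agent.H71.PicExt
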